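import Cfsg.Agent.H311.SQ.PGU
import Cfsg.Agent.CharactersDeep.PrimeIndex
import Cfsg.Agent.H33.IM

/-!
# S4844: degrees of `PSU(3,q)` divisible by `p ^ 2`, `p ∣ q + 1`, `p ≥ 5` (helper311)

* `im_of_prime_index` : degrees of a normal subgroup of prime index;
* `hyp_three` : `PSU(3,q)` has an irreducible character of degree divisible by `p ^ 2`.
-/

set_option autoImplicit false
set_option linter.unusedSectionVars false

namespace Cfsg.Agent.H311.SQ

open Cfsg Cfsg.Agent.Characters.Core Cfsg.Agent.H664.R1 Cfsg.Agent.H664.R1.U3 Cfsg.Agent.H33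

universe u

/-- degrees of a normal subgroup of prime index -/
theorem im_of_prime_index {G : Type u} [Group G] [Finite G] (K : Subgroup G) [K.Normal] {r d : ℕ}
    (hr : r.Prime) (hK : K.index = r) (hd : d.Coprime r) (h : IM d G) : IM d K := by
  classical
  have := Fintype.ofFinite G
  have := Fintype.ofFinite K
  have : Finite (IrrCharacter K) := finite_irr
  have := Fintype.ofFinite (IrrCharacter K)
  obtain ⟨⟨χ, hχ⟩, hdχ⟩ := h
  have hχK : IsCharacter K (fun k : K => χ k) :=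
    Characters.Clifford.isCharacter_restrict K (isIrr_isCharacter hχ)
  choose c hc using fun η : IrrCharacter K => classInner_isNat hχK (isIrr_isCharacter η.2)
  have h1 : charDegree χ = ∑ η, c η * charDegree (η : K → ℂ) := by
    have h2 := congrFun (classFunction_eq_sum (isCharacter_isClassFunction hχK)) 1
    simp only [Finset.sum_apply, Pi.smul_apply, smul_eq_mul, hc] at h2
    have h3 : χ 1 = ((∑ η, c η * charDegree (η : K → ℂ) : ℕ) : ℂ) := by
      push_cast
      have h4 : χ 1 = ∑ η : IrrCharacter K, (c η : ℂ) * (η : K → ℂ) 1 := h2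
      rw [h4]
      exact Finset.sum_congr rfl fun η _ => by rw [Blocks.Knorr.charDegree_eq η.2]
    exact Blocks.Knorr.charDegree_of_natCast h3
  obtain ⟨η, hη⟩ := CharactersDeep.PrimeIndex.sum_restrict_prime_index K hr hK hχ
    (fun η => charDegree (η : K → ℂ)) (fun g η η' h => by
      show charDegree (η' : K → ℂ) = charDegree (η : K → ℂ)
      unfold charDegree
      rw [h, Function.comp_apply, map_one]) c hc
  have hdχ' : d ∣ charDegree χ := hdχ
  rw [h1] at hdχ'
  refine ⟨η, ?_⟩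
  rcases hη with h | h
  · rwa [h] at hdχ'
  · rw [h] at hdχ'
    exact hd.dvd_of_dvd_mul_left hdχ'

section

variable {F : Type*} [Field F] [Fintype F] {σ : F →+* F} [hσ : Fact (∀ x, σ (σ x) = x)] {q : ℕ}

theorem index_S (hF : Fintype.card F = q ^ 2) (hq : 3 ≤ q) (hs : ∀ x, σ x = x ^ q) :
    (S σ).index = Nat.gcd 3 (q + 1) := by
  have : Finite (GUJ σ) := inferInstance
  have : Finite (PG σ) := inferInstance
  have := Fintype.ofFinite (PG σ)
  have h1 := Cfsg.Agent.H394.SqPsu3.card_psu3 hF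
  obtain ⟨e⟩ := nonempty_iso (σ := σ) hF hs
  rw [Nat.card_congr e.toEquiv] at h1
  have h2 := card_G' (fus (σ := σ) hF hq hs) (card_TP hF hs)
  have h3 := Subgroup.card_mul_index (S σ)
  rw [h2] at h3
  have h4 : Nat.card (S σ) * (S σ).index = Nat.card (S σ) * Nat.gcd 3 (q + 1) := by
    rw [h3, mul_comm _ (Nat.gcd 3 (q + 1)), h1]
    ring
  exact Nat.eq_of_mul_eq_mul_left Nat.card_pos h4

theorem im_PG (hF : Fintype.card F = q ^ 2) (hq : 3 ≤ q) (hs : ∀ x, σ x = x ^ q) {p : ℕ}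
    (hp : p ∣ q + 1) : IM (p ^ 2) (PG σ) := by
  obtain ⟨χ, h1, h2⟩ := exists_char (σ := σ) hF hq hs
  exact IM.of_apply_one h1 h2 ((pow_dvd_pow_of_dvd hp 2).mul_right _)

theorem im_S (hF : Fintype.card F = q ^ 2) (hq : 3 ≤ q) (hs : ∀ x, σ x = x ^ q) {p : ℕ}
    (hp : p.Prime) (hp5 : 5 ≤ p) (hpq : p ∣ q + 1) : IM (p ^ 2) (S σ) := by
  have : Finite (GUJ σ) := inferInstance
  have : Finite (PG σ) := inferInstance
  have h1 := im_PG (σ := σ) hF hq hs hpq
  have h2 := index_S (σ := σ) hF hq hs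
  rcases (Nat.dvd_prime Nat.prime_three).1 (Nat.gcd_dvd_left 3 (q + 1)) with h | h
  · rw [h, Subgroup.index_eq_one] at h2
    have e : S σ ≃* PG σ := (MulEquiv.subgroupCongr h2).trans Subgroup.topEquiv
    exact h1.of_equiv e
  · rw [h] at h2
    refine im_of_prime_index (S σ) Nat.prime_three h2 ?_ h1
    refine Nat.Coprime.pow_left 2 ((Nat.coprime_primes hp Nat.prime_three).2 ?_)
    omega

end

/-- **`PSU(3,q)`, `p ∣ q + 1`, `p ≥ 5`.** -/
theorem im_three {F : Type*} [Field F] [Fintype F] {q p : ℕ} (hF : Fintype.card F = q ^ 2) (hq : 3 ≤ q)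
    (hp : p.Prime) (hp5 : 5 ≤ p) (hpq : p ∣ q + 1) : IM (p ^ 2) (PSU 3 F q) := by
  obtain ⟨σ, hσ, hs, ⟨e⟩⟩ := exists_iso hF
  exact (im_S (σ := σ) hF hq hs hp hp5 hpq).of_equiv e

/-- `H279.Sq.HypThree` -/
theorem hyp_three : ∀ (F : Type) [Field F] [Fintype F] (q p : ℕ), Fintype.card F = q ^ 2 → 3 ≤ q →
    p.Prime → 5 ≤ p → p ∣ q + 1 → ¬ p ^ 2 ∣ q + 1 → IM (p ^ 2) (PSU 3 F q) :=
  fun _ _ _ _ _ hF hq hp hp5 hpq _ => im_three hF hq hp hp5 hpq

end Cfsg.Agent.H311.SQ
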