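import Cfsg.Agent.H664.R1.RankDeg
import Cfsg.Agent.OddOrderCharacters.VChar

/-!
# S4844: the degree `(q + 1)² (q - 1)` of `PGU(3,q)`, abstract form (helper311)

`exists_degree` : a group with the fusion of `PGU(3,q)` (`Fus`) and a Coxeter torus `C` of order `q² - q + 1` has an
irreducible character of degree `(q + 1)² (q - 1)`, namely `Ind_U^G φ - Ind_C^G θ`.
-/

set_option autoImplicit false
set_option linter.unusedSectionVars false

open Cfsg
open scoped ComplexConjugate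

namespace Cfsg.Agent.H311.SQ

open Cfsg.Agent.Characters.Core Cfsg.Agent.OddOrderCharacters.Clifford Cfsg.Agent.H664.R1
  Cfsg.Agent.CharactersDeep.MackeyLinear

universe u

/-- The Coxeter torus. -/
structure Tor {G : Type u} [Group G] (C : Subgroup G) (q : ℕ) : Prop where
  card : Nat.card C = q ^ 2 - q + 1
  ti : ∀ g : G, ∀ t ∈ C, t ≠ 1 → g⁻¹ * t * g ∈ C → g ∈ Subgroup.normalizer (C : Set G)
  norm : Nat.card (Subgroup.normalizer (C : Set G)) ≤ 3 * Nat.card C

section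

variable {G : Type u} [Group G] [Fintype G] {D : Split G} {X : Subgroup G} {q : ℕ}

/-- the class function `φ` on `U` -/
noncomputable def phi (D : Split G) (X : Subgroup G) (q : ℕ) : D.U → ℂ := by
  classical
  exact fun u => if u = 1 then (q : ℂ) + 1 else if (u : G) ∈ X then -((q : ℂ) - 1)⁻¹ else -((q : ℂ) ^ 2 - 1)⁻¹

theorem phi_one : phi D X q 1 = (q : ℂ) + 1 := by rw [phi, if_pos rfl]

theorem phi_X {u : D.U} (h1 : u ≠ 1) (h : (u : G) ∈ X) : phi D X q u = -((q : ℂ) - 1)⁻¹ := by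
  rw [phi, if_neg h1, if_pos h]

theorem phi_U {u : D.U} (h : (u : G) ∉ X) : phi D X q u = -((q : ℂ) ^ 2 - 1)⁻¹ := by
  rw [phi, if_neg (fun h1 => h (by rw [h1]; exact X.one_mem)), if_neg h]

variable (H : Fus D X q)

include H

/-- summation over `U` -/
theorem sum_U [Fintype D.U] (g : D.U → ℂ) {a b c : ℂ} (h1 : g 1 = a) (hX : ∀ u : D.U, u ≠ 1 → (u : G) ∈ X → g u = b)
    (hU : ∀ u : D.U, (u : G) ∉ X → g u = c) : ∑ u, g u = a + (q - 1) * b + ((q : ℂ) ^ 3 - q) * c := by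
  classical
  have := Fintype.ofFinite (X.subgroupOf D.U)
  have hcZ : Nat.card (X.subgroupOf D.U) = q := by
    rw [← H.cX]
    exact Nat.card_congr (Subgroup.subgroupOfEquivOfLe H.XU).toEquiv
  have e1 : ∀ u : D.U, g u = (if u = 1 then a - b else 0) + ((if u ∈ X.subgroupOf D.U then b - c else 0) + c) := by
    intro u
    by_cases h : u = 1
    · subst h
      rw [if_pos rfl, if_pos (Subgroup.one_mem _), h1]
      ring
    · rw [if_neg h]
      by_cases h2 : (u : G) ∈ X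
      · rw [if_pos (Subgroup.mem_subgroupOf.2 h2), hX u h h2]
        ring
      · rw [if_neg (fun h3 => h2 (Subgroup.mem_subgroupOf.1 h3)), hU u h2]
        ring
  rw [Finset.sum_congr rfl fun u _ => e1 u, Finset.sum_add_distrib, Finset.sum_add_distrib,
    Finset.sum_ite_eq' Finset.univ, if_pos (Finset.mem_univ _), ← Finset.sum_filter, Finset.sum_const,
    Finset.sum_const, Finset.card_univ, ← Nat.card_eq_fintype_card, H.cU]
  have h3 : (Finset.univ.filter fun u : D.U => u ∈ X.subgroupOf D.U).card = q := by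
    rw [← hcZ, Nat.card_eq_fintype_card]
    exact (Fintype.card_subtype _).symm
  rw [h3, nsmul_eq_mul, nsmul_eq_mul]
  push_cast
  ring

theorem q_ne : (q : ℂ) ≠ 0 ∧ (q : ℂ) - 1 ≠ 0 ∧ (q : ℂ) ^ 2 - 1 ≠ 0 ∧ (q : ℂ) + 1 ≠ 0 := by
  have hq := H.hq
  have h0 : (q : ℂ) ≠ 0 := by
    have : q ≠ 0 := by omega
    exact_mod_cast this
  have h1 : (q : ℂ) - 1 ≠ 0 := by
    intro h
    have : (q : ℂ) = 1 := by linear_combination h
    have : q = 1 := by exact_mod_cast this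
    omega
  have h2 : (q : ℂ) + 1 ≠ 0 := by
    intro h
    have : ((q + 1 : ℕ) : ℂ) = 0 := by push_cast; exact h
    have : q + 1 = 0 := by exact_mod_cast this
    omega
  refine ⟨h0, h1, ?_, h2⟩
  intro h
  have h3 : ((q : ℂ) - 1) * (q + 1) = 0 := by linear_combination h
  rcases mul_eq_zero.1 h3 with h4 | h4
  · exact h1 h4
  · exact h2 h4

/-- The values of the induced class function on `U`. -/
theorem ind_phi_U (hT : Nat.card D.T = q ^ 2 - 1) {u : D.U} (hu : u ≠ 1) :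
    indFun D.U (phi D X q) u = ((q : ℂ) ^ 2 - 1) * phi D X q u := by
  classical
  have := Fintype.ofFinite D.U
  have := Fintype.ofFinite D.B
  have hq := H.hq
  rw [Cfsg.Agent.OddOrderCharacters.Clifford.indFun_apply, D.sum_eq]
  have h1 : ∀ b : D.B, extendByZero D.U (phi D X q) ((b : G)⁻¹ * u * b) = phi D X q u := by
    intro b
    have h := D.nU' b.2 u.2
    rw [ext_apply_mem D.U _ _ h]
    have hne : (⟨(b : G)⁻¹ * u * b, h⟩ : D.U) ≠ 1 := by
      intro h2
      apply hu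
      have h3 : (b : G)⁻¹ * u * b = 1 := congrArg Subtype.val h2
      apply Subtype.ext
      have h4 : (u : G) = b * ((b : G)⁻¹ * u * b) * (b : G)⁻¹ := by group
      rw [h4, h3]
      simp
    by_cases hX : (u : G) ∈ X
    · rw [phi_X hu hX, phi_X hne]
      have := H.nX (b : G)⁻¹ (D.B.inv_mem b.2) u hX
      rwa [inv_inv] at this
    · rw [phi_U hX, phi_U]
      intro h2
      apply hX
      have h3 := H.nX b b.2 _ h2
      have h4 : (b : G) * ((b : G)⁻¹ * u * b) * (b : G)⁻¹ = u := by group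
      rwa [h4] at h3
  have h2 : ∀ (v : D.U) (b : D.B), extendByZero D.U (phi D X q)
      (((v : G) * D.w * b)⁻¹ * u * ((v : G) * D.w * b)) = 0 := by
    intro v b
    apply ext_apply_not_mem
    exact fun h => hu (Subtype.ext (D.eq_one_of_conj b.2 v.2 u.2 (D.UB h)))
  rw [Finset.sum_congr rfl fun b _ => h1 b,
    Finset.sum_congr rfl fun u _ => Finset.sum_congr rfl fun b _ => h2 u b]
  simp only [Finset.sum_const_zero, add_zero, Finset.sum_const, Finset.card_univ, nsmul_eq_mul,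
    ← Nat.card_eq_fintype_card]
  have h3 : (Nat.card D.B : ℂ) = Nat.card D.U * ((q : ℂ) ^ 2 - 1) := by
    rw [D.card_B, hT, Nat.cast_mul, Nat.cast_sub (Nat.one_le_pow _ _ (by omega))]
    push_cast
    ring
  have h4 : (Nat.card D.U : ℂ) ≠ 0 := card_ne_zero'
  rw [h3, ← mul_assoc, ← mul_assoc, inv_mul_cancel₀ h4, one_mul]

theorem card_G' (hT : Nat.card D.T = q ^ 2 - 1) : Nat.card G = (q ^ 3 + 1) * (q ^ 3 * (q ^ 2 - 1)) := by
  rw [D.card_G, D.card_B, hT, H.cU]

theorem index_U (hT : Nat.card D.T = q ^ 2 - 1) : D.U.index = (q ^ 3 + 1) * (q ^ 2 - 1) := by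
  have h1 := D.U.index_mul_card
  rw [card_G' H hT, H.cU] at h1
  have hq := H.hq
  have h2 : 0 < q ^ 3 := Nat.pow_pos (by omega)
  apply Nat.eq_of_mul_eq_mul_right h2
  rw [h1]
  ring

theorem ind_phi_one (hT : Nat.card D.T = q ^ 2 - 1) :
    indFun D.U (phi D X q) 1 = ((q : ℂ) ^ 3 + 1) * (q ^ 2 - 1) * (q + 1) := by
  have hq := H.hq
  rw [OddOrderCharacters.IndRes.indFun_apply_one, phi_one, index_U H hT, Nat.cast_mul,
    Nat.cast_sub (Nat.one_le_pow _ _ (by omega))]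
  push_cast
  ring

/-- **The induced class function is a generalized character.** -/
theorem inner_int {χ : G → ℂ} (hχ : IsIrrCharacter G χ) :
    ∃ n : ℤ, classInner (indFun D.U (phi D X q)) χ = n := by
  classical
  have := Fintype.ofFinite D.U
  have hq := H.hq
  obtain ⟨hq0, hq1, hq2, hq3⟩ := q_ne H
  obtain ⟨x, hx, hx1⟩ := H.exists_x
  obtain ⟨u, hu, hu1⟩ := H.exists_u
  obtain ⟨n, m, k, a, b, h1, h2, h3, h4, h5, h6, h7, h8, -⟩ := H.values hχ hx hx1 hu hu1
  have hcf := isIrr_isClassFunction hχ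
  have hsum : ∑ v : D.U, phi D X q v * conj (χ v) =
      ((q : ℂ) + 1) * n + (q - 1) * (-((q : ℂ) - 1)⁻¹ * a) + ((q : ℂ) ^ 3 - q) * (-((q : ℂ) ^ 2 - 1)⁻¹ * b) := by
    refine sum_U H _ ?_ (fun v hv hvX => ?_) (fun v hvX => ?_)
    · rw [phi_one, Subgroup.coe_one, h1, map_natCast]
    · rw [phi_X hv hvX]
      obtain ⟨c, -, hc⟩ := H.f1 x hx hx1 v hvX (fun h => hv (Subtype.ext h))
      rw [← hc, hcf, h2, map_intCast]
    · rw [phi_U hvX]
      obtain ⟨c, hc⟩ := H.f2 u hu hu1 v v.2 hvX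
      rw [← hc, hcf, h3, map_intCast]
  -- the integer
  have hqz : (q : ℤ) ≠ 0 := by
    have : q ≠ 0 := by omega
    exact_mod_cast this
  obtain ⟨j, hj⟩ : (q : ℤ) ^ 2 ∣ n - a := by
    have e1 : (q : ℤ) * (n - m) = (q - 1) * (n - a) := by linear_combination -h5
    have e2 : (q : ℤ) ^ 2 ∣ (q - 1) * (n - a) := by
      rw [← e1, sq]
      exact mul_dvd_mul_left _ h7
    refine IsCoprime.dvd_of_dvd_mul_left ?_ e2
    exact IsCoprime.pow_left ⟨1, -1, by ring⟩
  refine ⟨k - b + j, ?_⟩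
  rw [classInner_indFun D.U _ χ hcf, classInner_def, hsum, H.cU]
  have e3 : (q : ℤ) ^ 2 * k = q * j + a + (q ^ 2 - 1) * b := by
    have : (q : ℤ) * (q ^ 2 * k) = q * (q * j + a + (q ^ 2 - 1) * b) := by linear_combination h6 + h5 + hj
    exact mul_left_cancel₀ hqz this
  have e4 : (n : ℂ) = a + (q : ℂ) ^ 2 * j := by
    have : (n : ℤ) = a + q ^ 2 * j := by linear_combination hj
    exact_mod_cast this
  have e5 : (a : ℂ) = (q : ℂ) ^ 2 * k - q * j - ((q : ℂ) ^ 2 - 1) * b := by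
    have : (a : ℤ) = q ^ 2 * k - q * j - (q ^ 2 - 1) * b := by linear_combination -e3
    exact_mod_cast this
  have e6 : ((q : ℂ) - 1) * (-((q : ℂ) - 1)⁻¹ * a) = -a := by field_simp
  have e7 : ((q : ℂ) ^ 3 - q) * (-((q : ℂ) ^ 2 - 1)⁻¹ * b) = -(q * b) := by
    have : (q : ℂ) ^ 3 - q = q * ((q : ℂ) ^ 2 - 1) := by ring
    rw [this]
    field_simp
  rw [e6, e7, e4, e5]
  push_cast
  rw [inv_mul_eq_iff_eq_mul₀ (pow_ne_zero 3 hq0)]
  ring

variable {C : Subgroup G} (HC : Tor C q)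

include HC

theorem coprime_C : Nat.Coprime (Nat.card C) (Nat.card D.U) := by
  have hq := H.hq
  rw [HC.card, H.cU]
  apply Nat.Coprime.pow_right
  have h1 : q ^ 2 - q + 1 = q * (q - 1) + 1 := by
    obtain ⟨m, rfl⟩ : ∃ m, q = m + 1 := ⟨q - 1, by omega⟩
    have : (m + 1) ^ 2 - (m + 1) = (m + 1) * m := by
      have : (m + 1) ^ 2 = (m + 1) * m + (m + 1) := by ring
      omega
    rw [this, Nat.add_sub_cancel]
  rw [h1, Nat.coprime_mul_left_add_left]
  exact Nat.coprime_one_left _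

theorem not_conj {x t u : G} (ht : t ∈ C) (ht1 : t ≠ 1) (hu : u ∈ D.U) : x⁻¹ * t * x ≠ u := by
  intro h
  apply ht1
  have h1 : orderOf t ∣ Nat.card C := by
    have := orderOf_dvd_natCard (⟨t, ht⟩ : C)
    rwa [Subgroup.orderOf_mk] at this
  have h2 : orderOf u ∣ Nat.card D.U := by
    have := orderOf_dvd_natCard (⟨u, hu⟩ : D.U)
    rwa [Subgroup.orderOf_mk] at this
  have h3 : orderOf u = orderOf t := by
    rw [← h]
    have : x⁻¹ * t * x = MulAut.conj x⁻¹ t := by simp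
    rw [this]
    exact MulEquiv.orderOf_eq _ _
  rw [h3] at h2
  have h4 := Nat.dvd_gcd h1 h2
  rw [coprime_C H HC] at h4
  exact orderOf_eq_one_iff.1 (Nat.dvd_one.1 h4)

theorem ind_phi_C {t : G} (ht : t ∈ C) (ht1 : t ≠ 1) : indFun D.U (phi D X q) t = 0 := by
  rw [Cfsg.Agent.OddOrderCharacters.Clifford.indFun_apply]
  rw [Finset.sum_eq_zero, mul_zero]
  intro x _
  apply ext_apply_not_mem
  exact fun h => not_conj H HC ht ht1 h rfl

theorem ind_theta_U (θ : C → ℂ) {u : G} (hu : u ∈ D.U) (hu1 : u ≠ 1) : indFun C θ u = 0 := by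
  rw [Cfsg.Agent.OddOrderCharacters.Clifford.indFun_apply]
  rw [Finset.sum_eq_zero, mul_zero]
  intro x _
  apply ext_apply_not_mem
  intro h
  refine not_conj H HC (x := x⁻¹) (t := x⁻¹ * u * x) h ?_ hu (by group)
  intro h2
  apply hu1
  have h4 : u = x * (x⁻¹ * u * x) * x⁻¹ := by group
  rw [h4, h2]
  group

/-- The norm of the induced linear character. -/
theorem norm_theta [Fintype C] (θ : C →* ℂˣ)
    (hθ : ∀ n ∈ Subgroup.normalizer (C : Set G), n ∉ C → ∃ (t : C) (h : n⁻¹ * t * n ∈ C), θ t ≠ θ ⟨n⁻¹ * t * n, h⟩) :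
    ∑ x : G, twist C (fun t => (θ t : ℂ)) (fun t => (θ t : ℂ)) x =
      (Nat.card C : ℂ) ^ 2 + ((Nat.card G : ℂ) - Nat.card (Subgroup.normalizer (C : Set G))) := by
  classical
  have hirr : IsIrrCharacter C (fun t => (θ t : ℂ)) := Cfsg.Agent.Characters.Linear.isIrrCharacter_hom θ
  set N := Subgroup.normalizer (C : Set G) with hN
  have hCN : C ≤ N := Subgroup.le_normalizer
  have e1 : ∀ x : G, twist C (fun t => (θ t : ℂ)) (fun t => (θ t : ℂ)) x =
      (if x ∈ C then (Nat.card C : ℂ) else 0) + (1 - (if x ∈ N then 1 else 0)) := by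
    intro x
    by_cases h : x ∈ N
    · by_cases h1 : x ∈ C
      · rw [if_pos h, if_pos h1, twist_of_mem C _ _ (isIrr_isClassFunction hirr) x h1, classInner_irr_self hirr]
        ring
      · rw [if_pos h, if_neg h1, twist_eq_zero C θ x (hθ x h h1)]
        ring
    · rw [if_neg h, if_neg (fun h1 => h (hCN h1)), twist_def, Finset.sum_eq_single 1]
      · rw [Subgroup.coe_one, mul_one, inv_mul_cancel, ext_apply_mem C _ _ C.one_mem]
        have : (⟨1, C.one_mem⟩ : C) = 1 := rfl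
        rw [this, map_one, Units.val_one, map_one]
        ring
      · intro t _ ht
        rw [ext_apply_not_mem, map_zero, mul_zero]
        exact fun h1 => h (HC.ti x t t.2 (fun h2 => ht (Subtype.ext h2)) h1)
      · intro h1
        exact absurd (Finset.mem_univ _) h1
  have e2 : ∀ K : Subgroup G, ∀ c : ℂ, ∑ x : G, (if x ∈ K then c else 0) = (Nat.card K : ℂ) * c := by
    intro K c
    rw [← Finset.sum_filter, Finset.sum_const, nsmul_eq_mul]
    congr 2
    rw [Nat.card_eq_fintype_card]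
    exact (Fintype.card_subtype _).symm
  rw [Finset.sum_congr rfl fun x _ => e1 x, Finset.sum_add_distrib, Finset.sum_sub_distrib, e2, e2,
    Finset.sum_const, Finset.card_univ, nsmul_eq_mul, ← Nat.card_eq_fintype_card]
  ring

/-- **The degree `(q + 1)² (q - 1)`.** -/
theorem exists_degree (hT : Nat.card D.T = q ^ 2 - 1) (θ : C →* ℂˣ)
    (hθ : ∀ n ∈ Subgroup.normalizer (C : Set G), n ∉ C → ∃ (t : C) (h : n⁻¹ * t * n ∈ C), θ t ≠ θ ⟨n⁻¹ * t * n, h⟩) :
    ∃ χ : G → ℂ, IsIrrCharacter G χ ∧ χ 1 = (((q + 1) ^ 2 * (q - 1) : ℕ) : ℂ) := by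
  classical
  have := Fintype.ofFinite D.U
  have := Fintype.ofFinite C
  have hq := H.hq
  obtain ⟨hq0, hq1, hq2, hq3⟩ := q_ne H
  set A : G → ℂ := indFun C (fun t => (θ t : ℂ)) with hA
  set Bf : G → ℂ := indFun D.U (phi D X q) with hB
  have hAc : IsCharacter G A := Cfsg.Agent.S0148.result C _ (Cfsg.Agent.Characters.Linear.isCharacter_hom θ)
  have hBc : IsClassFunction G Bf := isClassFunction_indFun _ _
  have hAg := Cfsg.Agent.OddOrderCharacters.VChar.gen_of_char hAc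
  have hBg : IsGeneralizedCharacter G Bf :=
    Cfsg.Agent.OddOrderCharacters.VChar.gen_of_inner_int hBc fun χ hχ => inner_int H hχ
  have hfg : IsGeneralizedCharacter G (Bf - A) := Cfsg.Agent.OddOrderCharacters.VChar.gen_sub hBg hAg
  -- numbers
  have hqq : q ≤ q ^ 2 := by nlinarith
  set c : ℂ := (q : ℂ) ^ 2 - q + 1 with hc
  have hcc : (Nat.card C : ℂ) = c := by
    rw [HC.card, Nat.cast_add, Nat.cast_sub hqq]
    push_cast
    rfl
  have hc0 : c ≠ 0 := by rw [← hcc]; exact card_ne_zero'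
  have hGc : (Nat.card G : ℂ) = (q + 1) * c * ((q : ℂ) ^ 3 * ((q : ℂ) ^ 2 - 1)) := by
    rw [card_G' H hT, Nat.cast_mul, Nat.cast_mul, Nat.cast_sub (Nat.one_le_pow _ _ (by omega))]
    push_cast
    rw [hc]
    ring
  have hA1 : A 1 = (q + 1) * ((q : ℂ) ^ 3 * ((q : ℂ) ^ 2 - 1)) := by
    rw [hA, OddOrderCharacters.IndRes.indFun_apply_one, map_one, Units.val_one, mul_one]
    have h1 : (C.index : ℂ) * c = Nat.card G := by
      rw [← hcc]
      exact_mod_cast C.index_mul_card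
    rw [hGc] at h1
    apply mul_right_cancel₀ hc0
    rw [h1]
    ring
  have hB1 : Bf 1 = ((q : ℂ) ^ 3 + 1) * (q ^ 2 - 1) * (q + 1) := ind_phi_one H hT
  -- the inner products
  have hBB : classInner Bf Bf = ((q : ℂ) ^ 3)⁻¹ * ((q + 1) ^ 2 * (q ^ 2 - 1) * (q ^ 3 + 1) + (q + 1) + q) := by
    have hsum : ∑ v : D.U, phi D X q v * conj (Bf v) =
        ((q : ℂ) + 1) * (((q : ℂ) ^ 3 + 1) * (q ^ 2 - 1) * (q + 1)) +
          (q - 1) * (-((q : ℂ) - 1)⁻¹ * (((q : ℂ) ^ 2 - 1) * (-((q : ℂ) - 1)⁻¹))) +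
          ((q : ℂ) ^ 3 - q) * (-((q : ℂ) ^ 2 - 1)⁻¹ * (((q : ℂ) ^ 2 - 1) * (-((q : ℂ) ^ 2 - 1)⁻¹))) := by
      refine sum_U H _ ?_ (fun v hv hvX => ?_) (fun v hvX => ?_)
      · rw [phi_one, Subgroup.coe_one, hB1]
        simp
      · rw [phi_X hv hvX, hB, ind_phi_U H hT hv, phi_X hv hvX]
        simp
      · have hv : v ≠ 1 := fun h => hvX (by rw [h]; exact X.one_mem)
        rw [phi_U hvX, hB, ind_phi_U H hT hv, phi_U hvX]
        simp
    rw [hB, classInner_indFun D.U _ _ (isClassFunction_indFun _ _), ← hB, classInner_def, hsum, H.cU]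
    push_cast
    congr 1
    have e6 : ((q : ℂ) - 1) * (-((q : ℂ) - 1)⁻¹ * (((q : ℂ) ^ 2 - 1) * (-((q : ℂ) - 1)⁻¹))) = q + 1 := by
      have : (q : ℂ) ^ 2 - 1 = (q - 1) * (q + 1) := by ring
      rw [this]
      field_simp
    have e7 : ((q : ℂ) ^ 3 - q) * (-((q : ℂ) ^ 2 - 1)⁻¹ * (((q : ℂ) ^ 2 - 1) * (-((q : ℂ) ^ 2 - 1)⁻¹))) = q := by
      have : (q : ℂ) ^ 3 - q = q * ((q : ℂ) ^ 2 - 1) := by ring
      rw [this]
      field_simp
    rw [e6, e7]
    ring
  have hAB : classInner A Bf = c⁻¹ * (((q : ℂ) ^ 3 + 1) * (q ^ 2 - 1) * (q + 1)) := by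
    rw [hA, classInner_indFun C _ _ hBc, classInner_def, hcc, Finset.sum_eq_single 1]
    · rw [Subgroup.coe_one, hB1, map_one, Units.val_one]
      simp
    · intro t _ ht
      rw [hB, ind_phi_C H HC t.2 (fun h => ht (Subtype.ext h)), map_zero, mul_zero]
    · intro h1
      exact absurd (Finset.mem_univ _) h1
  have hBA : classInner Bf A = c⁻¹ * (((q : ℂ) ^ 3 + 1) * (q ^ 2 - 1) * (q + 1)) := by
    rw [← classInner_conj_symm, hAB, hc]
    simp
  set N : ℕ := Nat.card (Subgroup.normalizer (C : Set G)) with hN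
  have hAA : classInner A A = c⁻¹ * (c⁻¹ * (c ^ 2 + ((q + 1) * c * ((q : ℂ) ^ 3 * ((q : ℂ) ^ 2 - 1)) - N))) := by
    rw [hA, classInner_indFun_indFun, norm_theta H HC θ hθ, hcc, hGc]
  obtain ⟨K, hK⟩ := Cfsg.Agent.OddOrderCharacters.VChar.gen_inner hfg hfg
  have hKc : (K : ℂ) = 1 + 3 * c⁻¹ - N * (c⁻¹ * c⁻¹) := by
    rw [← hK, classInner_sub_left, classInner_sub_right, classInner_sub_right, hBB, hAB, hBA, hAA]
    field_simp
    rw [hc]
    ring
  have hKz : (K - 1) * (q ^ 2 - q + 1) ^ 2 = 3 * ((q : ℤ) ^ 2 - q + 1) - N := by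
    have h1 : ((K : ℂ) - 1) * c ^ 2 = 3 * c - N := by
      rw [hKc]
      field_simp
      ring
    rw [hc] at h1
    exact_mod_cast h1
  have hNle : (N : ℤ) ≤ 3 * ((q : ℤ) ^ 2 - q + 1) := by
    have h1 := HC.norm
    rw [HC.card] at h1
    zify [hqq] at h1
    exact h1
  have hq' : (3 : ℤ) ≤ q := by exact_mod_cast hq
  have hK1 : K = 1 := by
    have h7 : 7 ≤ (q : ℤ) ^ 2 - q + 1 := by nlinarith
    have hNp : (0 : ℤ) < N := by
      have : 0 < N := Nat.card_pos
      exact_mod_cast this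
    obtain ⟨w, hw⟩ : ∃ w : ℤ, w = (q : ℤ) ^ 2 - q + 1 := ⟨_, rfl⟩
    rw [← hw] at hKz hNle h7
    have h8 : 0 ≤ (K - 1) * w ^ 2 := by rw [hKz]; omega
    have h9 : (K - 1) * w ^ 2 < w ^ 2 := by
      rw [hKz]
      nlinarith
    have h10 : 0 < w ^ 2 := by positivity
    have h11 : 0 ≤ K - 1 := by
      by_contra hcon
      have : (K - 1) * w ^ 2 < 0 := mul_neg_of_neg_of_pos (by omega) h10
      omega
    have h12 : K - 1 < 1 := by
      by_contra hcon
      have : 1 * w ^ 2 ≤ (K - 1) * w ^ 2 := mul_le_mul_of_nonneg_right (by omega) h10.le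
      omega
    omega
  have hf1 : (Bf - A) 1 = (((q + 1) ^ 2 * (q - 1) : ℕ) : ℂ) := by
    rw [Pi.sub_apply, hB1, hA1, Nat.cast_mul, Nat.cast_sub (by omega)]
    push_cast
    ring
  rcases isIrr_of_generalized hfg (by rw [hK, hK1]; norm_num) with h | h
  · exact ⟨_, h, hf1⟩
  · exfalso
    obtain ⟨n, hn0, hn⟩ := isIrr_apply_one h
    rw [Pi.neg_apply, hf1] at hn
    have h1 : (n : ℂ) + (((q + 1) ^ 2 * (q - 1) : ℕ) : ℂ) = 0 := by rw [← hn]; ring
    have h2 : n + (q + 1) ^ 2 * (q - 1) = 0 := by exact_mod_cast h1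
    have h3 : 0 < (q + 1) ^ 2 * (q - 1) := Nat.mul_pos (Nat.pow_pos (by omega)) (by omega)
    omega

end

end Cfsg.Agent.H311.SQ
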