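import Cfsg.Agent.H311.SQ.Torus
import Cfsg.Agent.H664.R1.U3Deg
import Cfsg.Agent.H394.SqPsu3

/-!
# S4844: a character of degree `(q+1)²(q-1)` of `PGU(3,q)` (helper311)

* `exists_psi` : the projection of the unitary group of the standard form on `PG σ`;
* `exists_char` : the character.
-/

set_option autoImplicit false
set_option linter.unusedSectionVars false

namespace Cfsg.Agent.H311.SQ

open Matrix Cfsg Cfsg.Agent.LieRecognition.PSUThreeSylow Cfsg.Agent.H664.R1 Cfsg.Agent.H664.R1.U3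
open scoped MatrixGroups

section

variable {F : Type*} [Field F] [Fintype F] {σ : F →+* F} [hσ : Fact (∀ x, σ (σ x) = x)] {q : ℕ}

theorem mem_GU_iff (hF : Fintype.card F = q ^ 2) (hs : ∀ x, σ x = x ^ q) {g : GL (Fin 3) F} :
    g ∈ Cfsg.GU 3 F q ↔ (g : Matrix (Fin 3) (Fin 3) F)ᵀ * (g : Matrix (Fin 3) (Fin 3) F).map σ = 1 := by
  rw [Cfsg.Agent.H907.mem_GU_iff_ct hF]
  have h1 : Cfsg.Agent.H907.ct q (g : Matrix (Fin 3) (Fin 3) F) =
      ((g : Matrix (Fin 3) (Fin 3) F).map σ)ᵀ := by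
    ext i j
    simp [Cfsg.Agent.H907.ct, hs]
  rw [h1]
  constructor
  · intro h
    have := congrArg Matrix.transpose h
    rwa [Matrix.transpose_mul, Matrix.transpose_transpose, Matrix.transpose_one] at this
  · intro h
    have := congrArg Matrix.transpose h
    rwa [Matrix.transpose_mul, Matrix.transpose_transpose, Matrix.transpose_one] at this

theorem mem_Sc_iff {g : GUJ σ} : g ∈ Sc σ ↔ Scal (mat σ g) := by
  constructor
  · rintro ⟨⟨⟨a1, a2, a3⟩, a4, a5, a6⟩, h1, h2⟩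
    refine ⟨mat σ g 2 2, ?_⟩
    ext i j
    fin_cases i <;> fin_cases j <;> simp [a1, a2, a3, a4, a5, a6, h1, h2]
  · rintro ⟨c, hc⟩
    refine ⟨⟨⟨?_, ?_, ?_⟩, ?_, ?_, ?_⟩, ?_, ?_⟩ <;> rw [hc] <;> simp

/-- **The projection.** -/
theorem exists_psi (hF : Fintype.card F = q ^ 2) (hs : ∀ x, σ x = x ^ q) :
    ∃ ψ : ↥(Cfsg.GU 3 F q) →* PG σ, Function.Surjective ψ ∧
      (∀ g : ↥(Cfsg.GU 3 F q), ψ g = 1 ↔ Scal ((g : GL (Fin 3) F) : Matrix (Fin 3) (Fin 3) F)) ∧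
      Nat.card ψ.ker = q + 1 := by
  obtain ⟨T, T', hTT', hT⟩ := exists_T' hF hs
  have hT'T := mul_eq_one_comm.mp hTT'
  let τ : GL (Fin 3) F := ⟨T, T', hTT', hT'T⟩
  have hτ : (τ : Matrix (Fin 3) (Fin 3) F) = T := rfl
  have hτ' : ((τ⁻¹ : GL (Fin 3) F) : Matrix (Fin 3) (Fin 3) F) = T' := rfl
  have hfwd : ∀ g : GL (Fin 3) F, g ∈ GUJ σ → τ * g * τ⁻¹ ∈ Cfsg.GU 3 F q := by
    intro g hg
    rw [mem_GUJ] at hg
    rw [mem_GU_iff hF hs, Units.val_mul, Units.val_mul, hτ, hτ']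
    calc (T * (g : Matrix (Fin 3) (Fin 3) F) * T')ᵀ * (T * (g : Matrix (Fin 3) (Fin 3) F) * T').map σ
        = T'ᵀ * ((g : Matrix (Fin 3) (Fin 3) F)ᵀ * (Tᵀ * T.map σ) *
            (g : Matrix (Fin 3) (Fin 3) F).map σ) * T'.map σ := by
          simp only [Matrix.transpose_mul, Matrix.map_mul, Matrix.mul_assoc]
      _ = (T * T')ᵀ * (T * T').map σ := by
          rw [hT, hg, ← hT]
          simp only [Matrix.transpose_mul, Matrix.map_mul, Matrix.mul_assoc]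
      _ = 1 := by
          rw [hTT', Matrix.transpose_one, Matrix.map_one σ (map_zero σ) (map_one σ), Matrix.mul_one]
  have hbwd : ∀ g : GL (Fin 3) F, g ∈ Cfsg.GU 3 F q → τ⁻¹ * g * τ ∈ GUJ σ := by
    intro g hg
    rw [mem_GU_iff hF hs] at hg
    rw [mem_GUJ, Units.val_mul, Units.val_mul, hτ, hτ', ← hT]
    calc (T' * (g : Matrix (Fin 3) (Fin 3) F) * T)ᵀ * (Tᵀ * T.map σ) *
          (T' * (g : Matrix (Fin 3) (Fin 3) F) * T).map σ
        = Tᵀ * ((g : Matrix (Fin 3) (Fin 3) F)ᵀ * ((T * T')ᵀ * (T * T').map σ) *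
            (g : Matrix (Fin 3) (Fin 3) F).map σ) * T.map σ := by
          simp only [Matrix.transpose_mul, Matrix.map_mul, Matrix.mul_assoc]
      _ = Tᵀ * T.map σ := by
          rw [hTT', Matrix.transpose_one, Matrix.map_one σ (map_zero σ) (map_one σ), Matrix.mul_one,
            Matrix.mul_one, hg, Matrix.mul_one]
  let e : ↥(Cfsg.GU 3 F q) ≃* GUJ σ :=
    { toFun := fun g => ⟨τ⁻¹ * g * τ, hbwd g g.2⟩
      invFun := fun g => ⟨τ * g * τ⁻¹, hfwd g g.2⟩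
      left_inv := fun g => Subtype.ext (by
        show τ * (τ⁻¹ * (g : GL (Fin 3) F) * τ) * τ⁻¹ = g
        group)
      right_inv := fun g => Subtype.ext (by
        show τ⁻¹ * (τ * (g : GL (Fin 3) F) * τ⁻¹) * τ = g
        group)
      map_mul' := fun g h => Subtype.ext (by
        show τ⁻¹ * ((g : GL (Fin 3) F) * h) * τ = τ⁻¹ * (g : GL (Fin 3) F) * τ * (τ⁻¹ * h * τ)
        group) }
  have he : ∀ g : ↥(Cfsg.GU 3 F q), mat σ (e g) = T' * ((g : GL (Fin 3) F) : Matrix (Fin 3) (Fin 3) F) * T :=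
    fun g => rfl
  have hker : ∀ g : ↥(Cfsg.GU 3 F q), (pr σ).comp e.toMonoidHom g = 1 ↔ e g ∈ Sc σ :=
    fun g => QuotientGroup.eq_one_iff _
  refine ⟨(pr σ).comp e.toMonoidHom,
    (QuotientGroup.mk'_surjective (Sc σ)).comp e.surjective, fun g => ?_, ?_⟩
  · rw [hker, mem_Sc_iff, he]
    constructor
    · rintro ⟨c, hc⟩
      refine ⟨c, ?_⟩
      calc ((g : GL (Fin 3) F) : Matrix (Fin 3) (Fin 3) F)
          = (T * T') * ((g : GL (Fin 3) F) : Matrix (Fin 3) (Fin 3) F) * (T * T') := by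
            rw [hTT', Matrix.one_mul, Matrix.mul_one]
        _ = T * (T' * ((g : GL (Fin 3) F) : Matrix (Fin 3) (Fin 3) F) * T) * T' := by
            simp only [Matrix.mul_assoc]
        _ = c • 1 := by rw [hc, Matrix.mul_smul, Matrix.mul_one, Matrix.smul_mul, hTT']
    · rintro ⟨c, hc⟩
      exact ⟨c, by rw [hc, Matrix.mul_smul, Matrix.mul_one, Matrix.smul_mul, hT'T]⟩
  · rw [← card_Sc (σ := σ) hF hs]
    refine Nat.card_congr
      { toFun := fun g => ⟨e g, (hker g).1 g.2⟩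
        invFun := fun g => ⟨e.symm g, (hker _).2 (by rw [e.apply_symm_apply]; exact g.2)⟩
        left_inv := fun g => Subtype.ext (e.symm_apply_apply _)
        right_inv := fun g => Subtype.ext (e.apply_symm_apply _) }

/-- **The character of `PGU(3,q)`.** -/
theorem exists_char (hF : Fintype.card F = q ^ 2) (hq : 3 ≤ q) (hs : ∀ x, σ x = x ^ q) :
    ∃ χ : PG σ → ℂ, IsIrrCharacter (PG σ) χ ∧ χ 1 = (((q + 1) ^ 2 * (q - 1) : ℕ) : ℂ) := by
  have : Finite (GUJ σ) := inferInstance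
  have : Finite (PG σ) := inferInstance
  have := Fintype.ofFinite (PG σ)
  obtain ⟨ψ, h1, h2, h3⟩ := exists_psi (σ := σ) hF hs
  obtain ⟨C, HC, θ, hθ⟩ := exists_tor hF hq ψ h1 h2 h3
  exact exists_degree (fus hF hq hs) HC (card_TP hF hs) θ hθ

end

end Cfsg.Agent.H311.SQ
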